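import Cfsg.Agent.Lib.JankoFour.Centralizer
import Cfsg.Agent.Lib.JankoFour.FromHyp
import Cfsg.Agent.Lib.JankoFour.AutM22.HexData
import Cfsg.Agent.Lib.JankoFour.AutM22.Sixteen
import Cfsg.Agent.S5572
import Cfsg.Agent.S5573

/-!
# Elements of large prime order commute with no element of order 2, 3, 5 or 7
-/

set_option autoImplicit false
set_option linter.style.haveILetI false
set_option linter.unusedSectionVars false

namespace Cfsg.Lib.JankoFour

open Cfsg Cfsg.Lib.Extra Module BitModel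

variable {G : Type*} [Group G] [Finite G] {A : Type} [Group A] {I : Subgroup A}

theorem cen_one_D : ((cen 1).filter inD).isEmpty = false := by decide +kernel

namespace Adapted

variable {F : Frame G A I} {D : HexData A I} {S : Std F D} (C : Adapted S)

include C in
/-- Every involution of the normalizer moves into the standard group. -/
theorem invol_into_Vb {j : G} (hj : j ∈ S.NV) (hj2 : j * j = 1) : ∃ n, n * j * n⁻¹ ∈ S.Vb := by
  by_cases hjV : j ∈ S.Vb
  · exact ⟨1, by simpa using hjV⟩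
  suffices ∃ n, n * j * n⁻¹ ∈ F.E by
    obtain ⟨n, hn⟩ := this
    obtain ⟨d, -, hd⟩ := C.fused_E hn (Frame.conj_sq_one hj2)
    refine ⟨d * n, ?_⟩
    rw [show d * n * j * (d * n)⁻¹ = d * (n * j * n⁻¹) * d⁻¹ by group]
    exact S.K_le hd
  obtain ⟨e1, he1, e2, he2, q1, q2, hc1, hc2, hall, hrep⟩ := C.exists_reps
  obtain ⟨e, he, n, hn, x, hx, hnx⟩ := hrep j hj (hj2.symm ▸ one_mem _) hjV
  obtain ⟨v, hv, rfl⟩ := C.exists_el hx
  have q : e * e = 1 := by rcases he with rfl | rfl <;> assumption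
  have hev : Commute e (C.el v) := by
    have h : e * C.el v * (e * C.el v) = 1 := by rw [← hnx]; exact Frame.conj_sq_one hj2
    show e * C.el v = C.el v * e
    rw [← inv_eq_of_mul_eq_one_right h, mul_inv_rev, inv_eq_of_mul_eq_one_right q,
      inv_eq_of_mul_eq_one_right (S.Vb_sq (C.el_mem v))]
  rcases he with rfl | rfl
  · rw [C.commute_el_iff he1 hv, hc1] at hev
    have hvc : v ∈ cen 1 :=
      List.mem_filter.2 ⟨List.mem_range.2 hv, by rw [hev]; exact Nat.beq_refl v⟩
    have hne := cen_one_D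
    rw [List.isEmpty_eq_false_iff] at hne
    obtain ⟨w, hw⟩ := List.exists_mem_of_ne_nil _ hne
    obtain ⟨i, hi, hi'⟩ := List.any_eq_true.1 (List.all_eq_true.1 (List.all_eq_true.1 cen_cover v hvc) w hw)
    rw [Bool.and_eq_true] at hi'
    obtain ⟨m, hm, hme, hmE⟩ := hall i (List.mem_range.1 hi)
    refine ⟨m⁻¹ * n, ?_⟩
    rw [show m⁻¹ * n * j * (m⁻¹ * n)⁻¹ = m⁻¹ * (n * j * n⁻¹) * m by group, hnx,
      show m⁻¹ * (e * C.el v) * m = m⁻¹ * e * m * (m⁻¹ * C.el v * m) by group]
    exact mul_mem hmE (C.mem_of_mask (List.mem_range.1 hi) hm hme hv hi'.1)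
  · rw [C.commute_el_iff he2 hv, hc2] at hev
    refine ⟨n, ?_⟩
    rw [hnx]
    exact mul_mem he2 (C.el_mem_K (Nat.blt_eq.mp (List.all_eq_true.1 cen_small v
      (List.mem_filter.2 ⟨List.mem_range.2 hv, by rw [hev]; exact Nat.beq_refl v⟩)))).1

include C in
/-- Every involution is conjugate to the centre or into the second class of the standard group. -/
theorem involution_cases {s : G} (hs : orderOf s = 2) :
    IsConj F.z s ∨ ∃ g, g * s * g⁻¹ ∈ S.Vb ∧ ¬ IsConj F.z (g * s * g⁻¹) := by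
  haveI : Fact (Nat.Prime 2) := ⟨Nat.prime_two⟩
  obtain ⟨P, hVP, -⟩ := F.exists_sylow_two_G (fun x hx => F.centralizer_z_iff.2 (S.Vb_z hx))
    (isBig_pGroup S.isBig)
  obtain ⟨Q, hQ⟩ := (IsPGroup.of_card (n := 1) (p := 2) (G := ↥(Subgroup.zpowers s))
    (by rw [Nat.card_zpowers, hs, pow_one])).exists_le_sylow
  obtain ⟨g, hg⟩ := MulAction.exists_smul_eq G Q P
  have hsP : g * s * g⁻¹ ∈ (P : Subgroup G) := by
    rw [← hg]
    exact ⟨s, hQ (Subgroup.mem_zpowers s), rfl⟩
  have hPN : (P : Subgroup G) ≤ S.NV := fun x hx => by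
    refine mem_normalizer_of_map (S.two_group_unique P.isPGroup' (isBig_map S.isBig x) S.isBig ?_ hVP)
    rintro _ ⟨y, hy, rfl⟩
    exact mul_mem (mul_mem hx (hVP hy)) (inv_mem hx)
  have hsq : s * s = 1 := by
    have := pow_orderOf_eq_one s
    rwa [hs, pow_two] at this
  obtain ⟨n, hn⟩ := C.invol_into_Vb (hPN hsP) (Frame.conj_sq_one hsq)
  by_cases hz : IsConj F.z (n * (g * s * g⁻¹) * n⁻¹)
  · exact Or.inl (isConj_conj_iff.1 (isConj_conj_iff.1 hz))
  · refine Or.inr ⟨n * g, ?_⟩
    rw [show n * g * s * (n * g)⁻¹ = n * (g * s * g⁻¹) * n⁻¹ by group]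
    exact ⟨hn, hz⟩

end Adapted

theorem orderOf_conj' (g x : G) : orderOf (g * x * g⁻¹) = orderOf x :=
  (MulAut.conj g).orderOf_eq x

/-- A prime of at least 23 does not divide the order of the centralizer of `z`. -/
theorem not_dvd_centralizer_z (F : Frame G A I) {p : ℕ} (hp : p.Prime) (h23 : 23 ≤ p) :
    ¬ p ∣ Nat.card ↥(Subgroup.centralizer ({F.z} : Set G)) := by
  rw [F.card_centralizer_z]
  intro h
  have h' : p ∣ 2 ^ 21 * 3 ^ 3 * 5 * 7 * 11 := by
    refine h.trans ?_; norm_num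
  have hle : ∀ {q k : ℕ}, q.Prime → q < 23 → ¬ p ∣ q ^ k := fun hq hlt hd => by
    have := (Nat.prime_dvd_prime_iff_eq hp hq).1 (hp.dvd_of_dvd_pow hd)
    omega
  rcases (Nat.Prime.dvd_mul hp).1 h' with h' | h'
  · rcases (Nat.Prime.dvd_mul hp).1 h' with h' | h'
    · rcases (Nat.Prime.dvd_mul hp).1 h' with h' | h'
      · rcases (Nat.Prime.dvd_mul hp).1 h' with h' | h'
        · exact hle Nat.prime_two (by norm_num) h'
        · exact hle Nat.prime_three (by norm_num) h'
      · have := Nat.le_of_dvd (by norm_num) h'; omega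
    · have := Nat.le_of_dvd (by norm_num) h'; omega
  · have := Nat.le_of_dvd (by norm_num) h'; omega

variable [IsSimpleGroup G]

/-- Elements of prime order at least 23 commute with no element of order 2, 3, 5 or 7. -/
theorem no_commute_small (hG : ¬ IsMulCommutative G) (hJ : Cfsg.IsOfJankoFourType G) {x y : G}
    {p : ℕ} (hp : p.Prime) (h23 : 23 ≤ p) (hx : orderOf x = p)
    (hy : orderOf y = 2 ∨ orderOf y = 3 ∨ orderOf y = 5 ∨ orderOf y = 7) : ¬ Commute x y := by
  intro hc
  obtain ⟨z, P₀, hJ'⟩ := hJ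
  have hres := pResidual_two_of_simple hG
  obtain ⟨F, hz, -⟩ := exists_frame hJ' AutM22.facts
  subst hz
  obtain ⟨S⟩ := exists_std F AutM22.hexData AutM22.sixteen hres
  obtain ⟨C⟩ := exists_adapted S
  have hxc : ∀ {w : G}, Commute x w → x ∈ Subgroup.centralizer ({w} : Set G) :=
    fun h => Subgroup.mem_centralizer_singleton_iff.2 h.eq
  have hdvd : ∀ {H : Subgroup G}, x ∈ H → p ∣ Nat.card ↥H := fun {H} h => by
    rw [← hx]; exact Subgroup.orderOf_dvd_natCard H h
  have hzcase : ∀ {w g : G}, g * w * g⁻¹ = F.z → Commute x w → False := by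
    intro w g hw h
    have hmem : g * x * g⁻¹ ∈ Subgroup.centralizer ({F.z} : Set G) := by
      rw [← hw, Subgroup.mem_centralizer_singleton_iff]
      exact (h.map (MulAut.conj g).toMonoidHom).eq
    refine not_dvd_centralizer_z F hp h23 ?_
    rw [← hx, ← orderOf_conj' g x]
    exact Subgroup.orderOf_dvd_natCard _ hmem
  rcases hy with hy | hy | hy | hy
  · rcases C.involution_cases hy with h | ⟨g, hgV, hgz⟩
    · obtain ⟨g, hg⟩ := isConj_iff.1 h.symm
      exact hzcase hg hc
    · set t := g * y * g⁻¹ with ht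
      set x' := g * x * g⁻¹
      have ht1 : t ≠ 1 := fun e => by
        rw [conj_eq_one_iff.1 e, orderOf_one] at hy
        exact absurd hy (by norm_num)
      have hxt : x' ∈ Subgroup.centralizer ({t} : Set G) :=
        Subgroup.mem_centralizer_singleton_iff.2 (hc.map (MulAut.conj g).toMonoidHom).eq
      have hxN : x' ∈ S.NV := C.centralizer_le_NV hgV ht1 hgz hxt
      obtain ⟨-, -, -, -, h276, hcls, hD⟩ := C.model
      obtain ⟨v, hv, hve⟩ := C.exists_el hgV
      have hvD : inD v = true := by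
        by_contra h'
        exact hgz (hve ▸ (hcls v hv).2 ⟨fun e => ht1 (by rw [← hve, e, C.el_zero]),
          Bool.eq_false_iff.2 h'⟩)
      have horb : (S.orb t).ncard = 276 := by
        rw [← hve, S.orb_eq ((hD v hv).2 hvD)]; exact h276
      have hcount : (S.orb t).ncard * Nat.card ↥(S.NV ⊓ Subgroup.centralizer ({t} : Set G)) =
          Nat.card ↥S.NV := by
        convert ncard_image_mul_card (H := S.NV) (K := S.NV ⊓ Subgroup.centralizer ({t} : Set G))
          inf_le_left (fun d => d * t * d⁻¹) (fun a ha b hb => ?_) using 3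
        · rfl
        rw [Subgroup.mem_inf, and_iff_right (mul_mem (inv_mem ha) hb), Subgroup.mem_centralizer_singleton_iff]
        constructor
        · intro e
          calc a⁻¹ * b * t = a⁻¹ * (b * t * b⁻¹) * b := by group
            _ = t * (a⁻¹ * b) := by rw [← e]; group
        · intro e
          calc a * t * a⁻¹ = a * (t * (a⁻¹ * b)) * b⁻¹ := by group
            _ = b * t * b⁻¹ := by rw [← e]; group
      rw [horb, C.card_NV] at hcount
      have hdiv : p ∣ Nat.card ↥(S.NV ⊓ Subgroup.centralizer ({t} : Set G)) := by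
        rw [← hx, ← orderOf_conj' g x]
        exact Subgroup.orderOf_dvd_natCard _ ⟨hxN, hxt⟩
      rw [show Nat.card ↥(S.NV ⊓ Subgroup.centralizer ({t} : Set G)) = 2 ^ 11 * 887040 by omega]
        at hdiv
      exact not_dvd_centralizer_z F hp h23 (by
        rw [F.card_centralizer_z]; exact hdiv.trans (by norm_num))
  · obtain ⟨g, hg⟩ := isConj_iff.1 (F.isConj_p hres hy).symm
    have hmem : g * x * g⁻¹ ∈ Subgroup.normalizer (Subgroup.zpowers F.p : Set G) := by
      have hcm : Commute (g * x * g⁻¹) F.p := by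
        rw [← hg]; exact hc.map (MulAut.conj g).toMonoidHom
      refine Subgroup.centralizer_le_normalizer _ ?_
      rintro _ ⟨k, rfl⟩
      exact (hcm.zpow_right k).eq.symm
    refine not_dvd_centralizer_z F hp h23 ?_
    rw [← hx, ← orderOf_conj' g x]
    exact Subgroup.orderOf_dvd_natCard _ (F.normalizer_le hres hmem)
  all_goals
    obtain ⟨q, hq, hqy, hdN⟩ : ∃ q : ℕ, q.Prime ∧ orderOf y = q ∧ ∀ Q : Subgroup G,
        Nat.card ↥Q = q → Q ≤ Subgroup.centralizer ({F.z} : Set G) →
          ¬ q ^ 2 ∣ Nat.card G ∧ ¬ p ∣ Nat.card ↥(Subgroup.normalizer (Q : Set G)) := by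
      first
      | refine ⟨5, by norm_num, hy, fun Q h1 h2 => ?_⟩
        obtain ⟨h25, -, -, hN⟩ := Cfsg.Agent.S5572.result hG F.z ⟨P₀, hJ'⟩ Q h1 h2
        refine ⟨h25, fun hd => not_dvd_centralizer_z F hp h23 ?_⟩
        rw [hN] at hd
        rw [F.card_centralizer_z]
        exact hd.trans (by norm_num)
      | refine ⟨7, by norm_num, hy, fun Q h1 h2 => ?_⟩
        obtain ⟨h49, -, -, hN⟩ := Cfsg.Agent.S5573.result hG F.z ⟨P₀, hJ'⟩ Q h1 h2
        refine ⟨h49, fun hd => not_dvd_centralizer_z F hp h23 ?_⟩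
        rw [hN] at hd
        rw [F.card_centralizer_z]
        exact hd.trans (by norm_num)
    haveI : Fact q.Prime := ⟨hq⟩
    have hqH : q ∣ Nat.card ↥(Subgroup.centralizer ({F.z} : Set G)) := by
      rw [F.card_centralizer_z, ← hqy, hy]; norm_num
    obtain ⟨a, ha⟩ := exists_prime_orderOf_dvd_card' q hqH
    have haG : orderOf (a : G) = q := by rw [Subgroup.orderOf_coe]; exact ha
    set Q := Subgroup.zpowers (a : G)
    have hQ : Nat.card ↥Q = q := by rw [Nat.card_zpowers, haG]
    obtain ⟨hsq, hN⟩ := hdN Q hQ (Subgroup.zpowers_le.2 a.2)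
    obtain ⟨SQ, hSQ⟩ := (IsPGroup.of_card (n := 1) (p := q) (G := ↥Q) (by rw [hQ, pow_one])).exists_le_sylow
    obtain ⟨SY, hSY⟩ := (IsPGroup.of_card (n := 1) (p := q) (G := ↥(Subgroup.zpowers y))
      (by rw [Nat.card_zpowers, hqy, pow_one])).exists_le_sylow
    have hcS : ∀ T : Sylow q G, Nat.card ↥(T : Subgroup G) ≤ q := by
      intro T
      obtain ⟨k, hk⟩ := IsPGroup.iff_card.1 T.isPGroup'
      rw [hk]
      by_contra hgt
      refine hsq ((pow_dvd_pow q ?_).trans (hk ▸ Subgroup.card_subgroup_dvd_card _))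
      by_contra h2
      exact hgt ((Nat.pow_le_pow_right hq.pos (show k ≤ 1 by omega)).trans_eq (pow_one q))
    obtain ⟨g, hg⟩ := MulAction.exists_smul_eq G SY SQ
    have hQeq : Q = (SQ : Subgroup G) := Subgroup.eq_of_le_of_card_ge hSQ (hQ.symm ▸ hcS SQ)
    have hYeq : Subgroup.zpowers y = (SY : Subgroup G) :=
      Subgroup.eq_of_le_of_card_ge hSY (by rw [Nat.card_zpowers, hqy]; exact hcS SY)
    have hmap : (Subgroup.zpowers y).map (MulAut.conj g).toMonoidHom = Q := by
      rw [hQeq, hYeq, ← hg]; rfl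
    rw [MonoidHom.map_zpowers] at hmap
    refine hN ?_
    rw [← hx, ← orderOf_conj' g x]
    refine Subgroup.orderOf_dvd_natCard _ (Subgroup.centralizer_le_normalizer _ ?_)
    rw [← hmap]
    rintro _ ⟨k, rfl⟩
    exact (((hc.map (MulAut.conj g).toMonoidHom)).zpow_right k).eq.symm

end Cfsg.Lib.JankoFour
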