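import Cfsg.Agent.Lib.JankoFourSylow.Local

/-!
# Centralizers of elements of order 2, 3, 5 and 7 have order not divisible by `11 ^ 2`
-/

set_option autoImplicit false
set_option linter.style.haveILetI false
set_option linter.unusedSectionVars false

namespace Cfsg.Lib.JankoFour

open Cfsg Cfsg.Lib.Extra Module BitModel

variable {G : Type*} [Group G] [Finite G]

theorem card_centralizer_conj (g y : G) :
    Nat.card ↥(Subgroup.centralizer ({g * y * g⁻¹} : Set G)) =
      Nat.card ↥(Subgroup.centralizer ({y} : Set G)) := by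
  have e : (Subgroup.centralizer ({y} : Set G)).map (MulAut.conj g).toMonoidHom =
      Subgroup.centralizer ({g * y * g⁻¹} : Set G) := by
    ext w
    simp only [Subgroup.mem_map, MulEquiv.coe_toMonoidHom, MulAut.conj_apply,
      Subgroup.mem_centralizer_singleton_iff]
    constructor
    · rintro ⟨c, hc, rfl⟩
      calc g * c * g⁻¹ * (g * y * g⁻¹) = g * (c * y) * g⁻¹ := by group
        _ = g * (y * c) * g⁻¹ := by rw [hc]
        _ = g * y * g⁻¹ * (g * c * g⁻¹) := by group
    · intro hw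
      refine ⟨g⁻¹ * w * g, ?_, by group⟩
      calc g⁻¹ * w * g * y = g⁻¹ * (w * (g * y * g⁻¹)) * g := by group
        _ = g⁻¹ * (g * y * g⁻¹ * w) * g := by rw [hw]
        _ = y * (g⁻¹ * w * g) := by group
  rw [← e, Subgroup.card_map_of_injective (MulAut.conj g).injective]

theorem not_dvd_of_dvd {a b : ℕ} (h : a ∣ b) (h' : ¬ 11 ^ 2 ∣ b) : ¬ 11 ^ 2 ∣ a :=
  fun hd => h' (hd.trans h)

variable [IsSimpleGroup G]

/-- The centralizer of an element of order 2, 3, 5 or 7 has order not divisible by `11 ^ 2`. -/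
theorem sq_eleven_not_dvd (hG : ¬ IsMulCommutative G) (hJ : Cfsg.IsOfJankoFourType G) {y : G}
    (hy : orderOf y = 2 ∨ orderOf y = 3 ∨ orderOf y = 5 ∨ orderOf y = 7) :
    ¬ 11 ^ 2 ∣ Nat.card ↥(Subgroup.centralizer ({y} : Set G)) := by
  obtain ⟨z, P₀, hJ'⟩ := hJ
  have hres := pResidual_two_of_simple hG
  obtain ⟨F, hz, -⟩ := exists_frame hJ' AutM22.facts
  subst hz
  obtain ⟨S⟩ := exists_std F AutM22.hexData AutM22.sixteen hres
  obtain ⟨C⟩ := exists_adapted S
  rcases hy with hy | hy | hy | hy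
  · rcases C.involution_cases hy with h | ⟨g, hgV, hgz⟩
    · obtain ⟨g, hg⟩ := isConj_iff.1 h.symm
      rw [← card_centralizer_conj g y, hg, F.card_centralizer_z]
      norm_num
    · rw [← card_centralizer_conj g y]
      refine not_dvd_of_dvd (Subgroup.card_dvd_of_le (C.centralizer_le_NV hgV (fun e => ?_) hgz)) ?_
      · rw [conj_eq_one_iff.1 e, orderOf_one] at hy
        norm_num at hy
      · rw [C.card_NV]; norm_num
  · obtain ⟨g, hg⟩ := isConj_iff.1 (F.isConj_p hres hy).symm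
    rw [← card_centralizer_conj g y, hg]
    refine not_dvd_of_dvd (Subgroup.card_dvd_of_le (le_trans ?_ (F.normalizer_le hres)))
      (by rw [F.card_centralizer_z]; norm_num)
    rw [Subgroup.zpowers_eq_closure, ← Subgroup.centralizer_closure]
    exact Subgroup.centralizer_le_normalizer _
  all_goals
    obtain ⟨q, hq, hqy, hdN⟩ : ∃ q : ℕ, q.Prime ∧ orderOf y = q ∧ ∀ Q : Subgroup G,
        Nat.card ↥Q = q → Q ≤ Subgroup.centralizer ({F.z} : Set G) →
          ¬ q ^ 2 ∣ Nat.card G ∧ ¬ 11 ^ 2 ∣ Nat.card ↥(Subgroup.normalizer (Q : Set G)) := by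
      first
      | refine ⟨5, by norm_num, hy, fun Q h1 h2 => ?_⟩
        obtain ⟨h25, -, -, hN⟩ := Cfsg.Agent.S5572.result hG F.z ⟨P₀, hJ'⟩ Q h1 h2
        exact ⟨h25, by rw [hN]; norm_num⟩
      | refine ⟨7, by norm_num, hy, fun Q h1 h2 => ?_⟩
        obtain ⟨h49, -, -, hN⟩ := Cfsg.Agent.S5573.result hG F.z ⟨P₀, hJ'⟩ Q h1 h2
        exact ⟨h49, by rw [hN]; norm_num⟩
    haveI : Fact q.Prime := ⟨hq⟩
    have hqH : q ∣ Nat.card ↥(Subgroup.centralizer ({F.z} : Set G)) := by
      rw [F.card_centralizer_z, ← hqy, hy]; norm_num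
    obtain ⟨a, ha⟩ := exists_prime_orderOf_dvd_card' q hqH
    set Q := Subgroup.zpowers (a : G)
    have hQ : Nat.card ↥Q = q := by rw [Nat.card_zpowers, Subgroup.orderOf_coe, ha]
    obtain ⟨hsq, hN⟩ := hdN Q hQ (Subgroup.zpowers_le.2 a.2)
    obtain ⟨SQ, hSQ⟩ := (IsPGroup.of_card (n := 1) (p := q) (G := ↥Q) (by rw [hQ, pow_one])).exists_le_sylow
    obtain ⟨SY, hSY⟩ := (IsPGroup.of_card (n := 1) (p := q) (G := ↥(Subgroup.zpowers y))
      (by rw [Nat.card_zpowers, hqy, pow_one])).exists_le_sylow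
    have hcS : ∀ T : Sylow q G, Nat.card ↥(T : Subgroup G) ≤ q := by
      intro T
      obtain ⟨k, hk⟩ := IsPGroup.iff_card.1 T.isPGroup'
      rw [hk]
      by_contra hgt
      refine hsq ((pow_dvd_pow q ?_).trans (hk ▸ Subgroup.card_subgroup_dvd_card _))
      by_contra h2
      exact hgt ((Nat.pow_le_pow_right hq.pos (show k ≤ 1 by omega)).trans_eq (pow_one q))
    obtain ⟨g, hg⟩ := MulAction.exists_smul_eq G SY SQ
    have hQeq : Q = (SQ : Subgroup G) := Subgroup.eq_of_le_of_card_ge hSQ (hQ.symm ▸ hcS SQ)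
    have hYeq : Subgroup.zpowers y = (SY : Subgroup G) :=
      Subgroup.eq_of_le_of_card_ge hSY (by rw [Nat.card_zpowers, hqy]; exact hcS SY)
    have hmap : (Subgroup.zpowers y).map (MulAut.conj g).toMonoidHom = Q := by
      rw [hQeq, hYeq, ← hg]; rfl
    rw [MonoidHom.map_zpowers] at hmap
    rw [← card_centralizer_conj g y]
    refine not_dvd_of_dvd (Subgroup.card_dvd_of_le ?_) hN
    intro c hc
    refine Subgroup.centralizer_le_normalizer _ ?_
    rw [← hmap]
    rintro _ ⟨k, rfl⟩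
    exact (Commute.zpow_right (Subgroup.mem_centralizer_singleton_iff.1 hc) k).eq.symm

end Cfsg.Lib.JankoFour
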